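import Cfsg.Agent.H813.Rg.RowE78a
import Cfsg.Agent.H454.Reg.NotLe
import Cfsg.Agent.H563.KG.CycFix
import Cfsg.Agent.OrdDiv.Table
import Cfsg.Agent.S0000

/-!
# S3691, rows `E₇(q)`, `E₈(q)` (helper813)
-/

set_option autoImplicit false

namespace Cfsg.Agent.H813.Rg

open Cfsg Subgroup Cfsg.Lie Cfsg.Agent.H454.Reg

universe u

/-- **S3691, the row `E₈(q)`** -/
theorem row_e8 (F : Type) [Field F] [Fintype F] : Row.{0, u} ↥(chevE8.group F) := by
  rintro G _ _ T H B h ⟨e⟩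
  exact (fac_e8 Cfsg.Agent.OrdDiv.table Cfsg.Agent.H563.KG.cycFixSolv (fun _ _ _ _ => Cfsg.Agent.S0000.result) F h.toFac e).elim

/-- **S3691, the row `E₇(q)`** -/
theorem row_e7 (F : Type) [Field F] [Fintype F] : Row.{0, u} ↥(chevE7.group F) := by
  rintro G _ _ T H B h ⟨e⟩
  exact (fac_e7 Cfsg.Agent.OrdDiv.table Cfsg.Agent.H563.KG.cycFixSolv (fun _ _ _ _ => Cfsg.Agent.S0000.result) F h.toFac e).elim

end Cfsg.Agent.H813.Rg
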