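import Cfsg.Agent.H813.Rg.EFac
import Cfsg.Agent.H73.Rg.KH8
import Cfsg.Agent.H95.Rg.KH7

/-!
# S3691, rows `E₇(q)`, `E₈(q)`, with the inputs as hypotheses (helper813)
-/

set_option autoImplicit false

namespace Cfsg.Agent.H813.Rg

open Cfsg Subgroup Cfsg.Lie Cfsg.Agent.OrdDiv Cfsg.Agent.H454.Reg Cfsg.Agent.H73.Rg Cfsg.Agent.H436 Cfsg.Agent.H56.Exc
  Cfsg.Agent.H563.KG Cfsg.Agent.H915.GN Cfsg.Agent.H325.Loc

universe u v

theorem exists_pfc (F : Type v) [Field F] [Fintype F] :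
    ∃ p f : ℕ, CharP F p ∧ p.Prime ∧ 1 ≤ f ∧ Fintype.card F = p ^ f := by
  obtain ⟨p, hchar⟩ := CharP.exists F
  have hl : Fact p.Prime := ⟨CharP.char_is_prime F p⟩
  obtain ⟨m, hm, hcard⟩ := FiniteField.card F p
  exact ⟨p, m, hchar, hm, m.2, hcard⟩

theorem fac_e8 (tb : OrderTable.{0}) (hcyc : CycFixSolv.{0}) (hcf : CF) (F : Type) [Field F] [Fintype F]
    {G : Type u} [Group G] [Finite G] {T X Y : Subgroup G} (h : Fac T X Y) (e : T ≃* ↥(chevE8.group F)) : False := by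
  obtain ⟨p, f, _, hp, hf, hF⟩ := exists_pfc F
  exact no_fac_E8 hp hf hF (fun B hB => KH8a tb hcyc hcf hp hf hF B hB) (fun B hB => KH8b tb hcyc hcf hp hf hF B hB)
    (fun B hB => KH8c tb hcyc hcf hp hf hF B hB) h e

theorem fac_e7 (tb : OrderTable.{0}) (hcyc : CycFixSolv.{0}) (hcf : CF) (F : Type) [Field F] [Fintype F]
    {G : Type u} [Group G] [Finite G] {T X Y : Subgroup G} (h : Fac T X Y) (e : T ≃* ↥(chevE7.group F)) : False := by
  obtain ⟨p, f, _, hp, hf, hF⟩ := exists_pfc F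
  exact no_fac_E7 hp hf hF (fun B hB => H95.Rg.KH_18_14 tb hcyc hcf hp hf hF B hB)
    (fun B hB => H95.Rg.KH_18_7 tb hcyc hcf hp hf hF B hB)
    (fun B hB => H95.Rg.KH_9_14 tb hcyc hcf hp hf hF B hB)
    (fun s hs B hB hsB => H95.Rg.KH_9_18 tb hcyc hcf hp hf hF B hB hs hsB)
    (fun s hs B hB hsB => H95.Rg.KH_7_14 tb hcyc hcf hp hf hF B hB hs hsB) h e

end Cfsg.Agent.H813.Rg
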